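import Cfsg.Agent.H583.BR.Flag
import Cfsg.Agent.H199.PslAut

/-!
# S4829: the flag characters of `PSL_n(q)` are invariant under all automorphisms (helper477)

`fz_flg_aut` : the permutation character on the flags of type `a` is invariant under every automorphism of `PSL_n(F)`
(inverse transpose reverses the type; the characters of reversed types are equal).
`T_flg_aut`, `theta_aut` : the same for the integral combinations.
-/

set_option autoImplicit false
set_option linter.unusedSectionVars false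

namespace Cfsg.Agent.H477.CY

open scoped MatrixGroups
open Matrix Finset Cfsg
open Cfsg.Agent.H139.Young Cfsg.Agent.H139.BlockCount Cfsg.Agent.H139.Bruhat Cfsg.Agent.H583.BR
open Cfsg.Agent.ClassicalGeometry.AutPSL.Root Cfsg.Agent.ClassicalGeometry.AutPSL.Auto
open Cfsg.Agent.H199.PslAut

universe u v

section abstract

variable {G : Type u} [Group G]

/-- an automorphism which maps `K` to a conjugate of `H` -/
theorem fz_of_conj (H K : Subgroup G) (α : MulAut G) (g : G) (h : ∀ k, k ∈ K ↔ g⁻¹ * α k * g ∈ H) (x : G) :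
    fz H (α x) = fz K x := by
  have h1 : ∀ a b : G, (QuotientGroup.mk a : G ⧸ K) = QuotientGroup.mk b ↔
      (QuotientGroup.mk (α a * g) : G ⧸ H) = QuotientGroup.mk (α b * g) := by
    intro a b
    rw [QuotientGroup.eq, QuotientGroup.eq, h]
    have e : g⁻¹ * α (a⁻¹ * b) * g = (α a * g)⁻¹ * (α b * g) := by
      rw [map_mul, map_inv]
      group
    rw [e]
  let f : G ⧸ K → G ⧸ H := Quotient.lift (fun a => (QuotientGroup.mk (α a * g) : G ⧸ H))
    (fun a b hab => (h1 a b).1 (Quotient.sound hab))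
  have hf : ∀ a : G, f (QuotientGroup.mk a) = QuotientGroup.mk (α a * g) := fun a => rfl
  have hb : Function.Bijective f := by
    constructor
    · intro a b hab
      obtain ⟨a, rfl⟩ := QuotientGroup.mk_surjective a
      obtain ⟨b, rfl⟩ := QuotientGroup.mk_surjective b
      exact (h1 a b).2 hab
    · intro b
      obtain ⟨b, rfl⟩ := QuotientGroup.mk_surjective b
      refine ⟨QuotientGroup.mk (α.symm (b * g⁻¹)), ?_⟩
      rw [hf, MulEquiv.apply_symm_apply, inv_mul_cancel_right]
  have hs : ∀ (y : G) (a : G ⧸ K), f (y • a) = α y • f a := by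
    intro y a
    obtain ⟨a, rfl⟩ := QuotientGroup.mk_surjective a
    have e1 : y • (QuotientGroup.mk a : G ⧸ K) = QuotientGroup.mk (y * a) := rfl
    have e2 : α y • (QuotientGroup.mk (α a * g) : G ⧸ H) = QuotientGroup.mk (α y * (α a * g)) := rfl
    rw [e1, hf, hf, e2, map_mul, mul_assoc]
  rw [fz, fz]
  congr 1
  symm
  refine Nat.card_congr ((Equiv.ofBijective f hb).subtypeEquiv ?_)
  intro a
  rw [MulAction.mem_fixedBy, MulAction.mem_fixedBy]
  change x • a = a ↔ α x • f a = f a
  rw [← hs]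
  exact hb.1.eq_iff.symm

end abstract

/-! ### compositions read backwards -/

theorem psum_rev {n : ℕ} (a : Fin n → ℕ) (ha : ∑ i, a i = n) (k : ℕ) (hk : k ≤ n) :
    psum (a ∘ Fin.rev) k + psum a (n - k) = n := by
  have h1 : psum (a ∘ Fin.rev) k = ∑ j ∈ Finset.univ.filter (fun j : Fin n => ¬ j.val < n - k), a j := by
    rw [psum]
    refine Finset.sum_bij (fun j _ => Fin.rev j) ?_ ?_ ?_ ?_
    · intro j hj
      simp only [Finset.mem_filter, Finset.mem_univ, true_and, Fin.val_rev] at hj ⊢
      omega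
    · intro j _ j' _ h
      exact Fin.rev_injective h
    · intro j hj
      refine ⟨Fin.rev j, ?_, Fin.rev_rev j⟩
      simp only [Finset.mem_filter, Finset.mem_univ, true_and, Fin.val_rev] at hj ⊢
      omega
    · intro j _
      rfl
  rw [h1, psum, add_comm, Finset.sum_filter_add_sum_filter_not, ha]

theorem compLabel_rev {n : ℕ} (a : Fin n → ℕ) (ha : ∑ i, a i = n) (i : Fin n) :
    compLabel (a ∘ Fin.rev) i = n - 1 - compLabel a (Fin.rev i) := by
  have ha' : ∑ i, (a ∘ Fin.rev) i = n := (Equiv.sum_comp Fin.revPerm a).trans ha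
  have h0 := compLabel_lt a ha (Fin.rev i)
  have h0' := compLabel_lt _ ha' i
  have key : ∀ k : ℕ, k ≤ n → (compLabel (a ∘ Fin.rev) i < k ↔ n - k ≤ compLabel a (Fin.rev i)) := by
    intro k hk
    have h1 := psum_rev a ha k hk
    have h2 := compLabel_lt_iff (a ∘ Fin.rev) i hk ((psum_last _).trans ha')
    have h3 := compLabel_lt_iff a (Fin.rev i) (show n - k ≤ n by omega) ((psum_last _).trans ha)
    rw [h2, ← not_lt, h3, Fin.val_rev]
    have := i.2
    omega
  have k1 := key (compLabel (a ∘ Fin.rev) i + 1) (by omega)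
  have k2 := key (compLabel (a ∘ Fin.rev) i) (by omega)
  omega

/-- **Reversed types have the same permutation character.** -/
theorem fz_rev {n : ℕ} {G : Type u} [Group G] [Fintype G] {Q : (Fin n → ℕ) → Subgroup G} (hQ : YoungType Q)
    (a : Fin n → ℕ) (ha : ∑ i, a i = n) (e : Equiv.Perm (Fin n)) (g : G) : fz (Q (a ∘ e)) g = fz (Q a) g := by
  classical
  have ha' : ∑ i, (a ∘ e) i = n := (Equiv.sum_comp e a).trans ha
  have h1 : T (fun a : Fin n → ℕ => youngSubgroup a)
      (Finsupp.single (⟨a ∘ e, ha'⟩ : Cmp n) 1 - Finsupp.single (⟨a, ha⟩ : Cmp n) 1) = 0 := by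
    funext x
    rw [map_sub, Pi.sub_apply, T_single, T_single, one_mul, one_mul, Pi.zero_apply, sub_eq_zero]
    have h2 : ((fz (youngSubgroup (a ∘ e)) x : ℤ) : ℂ) = ((fz (youngSubgroup a) x : ℤ) : ℂ) := by
      rw [fz_cast, fz_cast, Cfsg.Agent.H139.Unipotent.fixedPointCharacter_young _ ha',
        Cfsg.Agent.H139.Unipotent.fixedPointCharacter_young _ ha]
      congr 1
      rw [H614.cnt, H614.cnt]
      refine Finset.card_bij (fun f _ => e ∘ f) ?_ ?_ ?_
      · intro f hf
        rw [H614.mem_invSet] at hf ⊢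
        refine ⟨by rw [Function.comp_assoc, hf.1], fun j => ?_⟩
        have h3 := hf.2 (e.symm j)
        rw [Function.comp_apply, Equiv.apply_symm_apply] at h3
        rw [← h3]
        congr 1
        ext y
        simp only [Finset.mem_filter, Finset.mem_univ, true_and, Function.comp_apply]
        rw [Equiv.eq_symm_apply]
      · intro f _ f' _ h
        funext y
        exact e.injective (congrFun h y)
      · intro f hf
        rw [H614.mem_invSet] at hf
        refine ⟨e.symm ∘ f, ?_, ?_⟩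
        · rw [H614.mem_invSet]
          refine ⟨by rw [Function.comp_assoc, hf.1], fun j => ?_⟩
          rw [Function.comp_apply, ← hf.2 (e j)]
          congr 1
          ext y
          simp only [Finset.mem_filter, Finset.mem_univ, true_and, Function.comp_apply]
          rw [Equiv.symm_apply_eq]
        · funext y
          simp
    exact_mod_cast h2
  have h2 := congrFun (T_eq_zero hQ youngType_young h1) g
  rw [map_sub, Pi.sub_apply, T_single, T_single, one_mul, one_mul, Pi.zero_apply, sub_eq_zero] at h2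
  exact h2

/-! ### the three kinds of automorphisms -/

section field

variable {F : Type u} [Field F] {n : ℕ}

/-- conjugation by an invertible matrix -/
theorem exists_conj_Psi (hn : 0 < n) (a : Fin n → ℕ) (A : GL (Fin n) F) :
    ∃ g : ProjectiveSpecialLinearGroup (Fin n) F, ∀ k, k ∈ flg n F a ↔ g⁻¹ * Psi n F A k * g ∈ flg n F a := by
  obtain ⟨d, hd⟩ := exists_prod_eq hn (GeneralLinearGroup.det A)
  obtain ⟨t, ht⟩ := exists_toGL (g := A * (dg d)⁻¹) (by rw [map_mul, map_inv, det_dg, hd, mul_inv_cancel])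
  refine ⟨pr t, fun k => ?_⟩
  obtain ⟨s, rfl⟩ := pr_surjective k
  rw [Psi_pr, ← map_inv, ← map_mul, ← map_mul, mem_flg, mem_flg]
  have e1 : SpecialLinearGroup.toGL (t⁻¹ * cj A s * t) = dg d * SpecialLinearGroup.toGL s * (dg d)⁻¹ := by
    have e2 : SpecialLinearGroup.toGL (cj A s) = A * SpecialLinearGroup.toGL s * A⁻¹ := by
      apply Units.ext
      rfl
    rw [map_mul, map_mul, map_inv, e2, ht]
    group
  change SpecialLinearGroup.toGL s ∈ parabolicGL n F a ↔
    SpecialLinearGroup.toGL (t⁻¹ * cj A s * t) ∈ parabolicGL n F a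
  rw [e1]
  constructor
  · intro h
    exact mul_mem (mul_mem (dg_mem a d) h) (inv_mem (dg_mem a d))
  · intro h
    have h1 := mul_mem (mul_mem (inv_mem (dg_mem a d)) h) (dg_mem a d)
    have e3 : (dg d)⁻¹ * (dg d * SpecialLinearGroup.toGL s * (dg d)⁻¹) * dg d = SpecialLinearGroup.toGL s := by group
    rwa [e3] at h1

/-- field automorphisms -/
theorem mem_phi (a : Fin n → ℕ) (σ : F ≃+* F) (k : ProjectiveSpecialLinearGroup (Fin n) F) :
    k ∈ flg n F a ↔ phi n F σ k ∈ flg n F a := by
  obtain ⟨s, rfl⟩ := pr_surjective k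
  rw [phi_pr, mem_flg, mem_flg]
  change (s : Matrix (Fin n) (Fin n) F).BlockTriangular (compLabel a) ↔
    (fld σ s : Matrix (Fin n) (Fin n) F).BlockTriangular (compLabel a)
  constructor
  · intro h i j hij
    rw [coe_fld_apply, h hij, map_zero]
  · intro h i j hij
    have h1 := h hij
    rw [coe_fld_apply] at h1
    exact (map_eq_zero_iff σ σ.injective).1 h1

theorem mul_permGL_apply (X : Matrix (Fin n) (Fin n) F) (σ : Equiv.Perm (Fin n)) (i j : Fin n) :
    (X * ((permGL F n σ : GL (Fin n) F) : Matrix (Fin n) (Fin n) F)) i j = X i (σ j) := by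
  have h1 : ∀ k, ((permGL F n σ : GL (Fin n) F) : Matrix (Fin n) (Fin n) F) k j =
      if σ⁻¹ k = j then 1 else 0 := by
    intro k
    have h2 := permGL_mul_apply σ (1 : Matrix (Fin n) (Fin n) F) k j
    rw [Matrix.mul_one, one_apply] at h2
    exact h2
  rw [Matrix.mul_apply, Finset.sum_eq_single (σ j)]
  · rw [h1, if_pos (by simp), mul_one]
  · intro b _ hb
    rw [h1, if_neg, mul_zero]
    rintro rfl
    exact hb (by simp)
  · exact fun h => absurd (Finset.mem_univ _) h

/-- inverse transpose -/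
theorem exists_conj_iot (hn : 0 < n) (a : Fin n → ℕ) (ha : ∑ i, a i = n) :
    ∃ g : ProjectiveSpecialLinearGroup (Fin n) F, ∀ k, k ∈ flg n F a ↔ g⁻¹ * iot n F k * g ∈ flg n F (a ∘ Fin.rev) := by
  obtain ⟨d, hd⟩ := exists_prod_eq hn (GeneralLinearGroup.det (permGL F n (Fin.revPerm : Equiv.Perm (Fin n))))⁻¹
  obtain ⟨t, ht⟩ := exists_toGL (g := permGL F n (Fin.revPerm : Equiv.Perm (Fin n)) * dg d)
    (by rw [map_mul, det_dg, hd, mul_inv_cancel])
  refine ⟨pr t, fun k => ?_⟩
  obtain ⟨s, rfl⟩ := pr_surjective k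
  rw [iot_pr, ← map_inv, ← map_mul, ← map_mul, mem_flg, mem_flg]
  have e0 : (permGL F n (Fin.revPerm : Equiv.Perm (Fin n)))⁻¹ = permGL F n (Fin.revPerm : Equiv.Perm (Fin n)) := by
    rw [← map_inv]
    rfl
  have e1 : SpecialLinearGroup.toGL (t⁻¹ * itr s * t) = (dg d)⁻¹ * (permGL F n (Fin.revPerm : Equiv.Perm (Fin n)) *
      SpecialLinearGroup.toGL (itr s) * permGL F n (Fin.revPerm : Equiv.Perm (Fin n))) * dg d := by
    rw [map_mul, map_mul, map_inv, ht, _root_.mul_inv_rev, e0]
    group
  have e2 : SpecialLinearGroup.toGL (t⁻¹ * itr s * t) ∈ parabolicGL n F (a ∘ Fin.rev) ↔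
      permGL F n (Fin.revPerm : Equiv.Perm (Fin n)) * SpecialLinearGroup.toGL (itr s) *
        permGL F n (Fin.revPerm : Equiv.Perm (Fin n)) ∈ parabolicGL n F (a ∘ Fin.rev) := by
    rw [e1]
    have hdm := dg_mem (F := F) (a ∘ Fin.rev) d
    constructor
    · intro h
      have h1 := mul_mem (mul_mem hdm h) (inv_mem hdm)
      rwa [← mul_assoc, ← mul_assoc, mul_inv_cancel, one_mul, mul_inv_cancel_right] at h1
    · intro h
      exact mul_mem (mul_mem (inv_mem hdm) h) hdm
  have e3 : s ∈ slp n F a ↔ s⁻¹ ∈ slp n F a := (inv_mem_iff (x := s) (H := slp n F a)).symm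
  rw [e3]
  change _ ↔ SpecialLinearGroup.toGL (t⁻¹ * itr s * t) ∈ parabolicGL n F (a ∘ Fin.rev)
  rw [e2]
  change ((s⁻¹ : SpecialLinearGroup (Fin n) F) : Matrix (Fin n) (Fin n) F).BlockTriangular (compLabel a) ↔
    (((permGL F n (Fin.revPerm : Equiv.Perm (Fin n)) : GL (Fin n) F) : Matrix (Fin n) (Fin n) F) *
      (itr s : Matrix (Fin n) (Fin n) F) *
      ((permGL F n (Fin.revPerm : Equiv.Perm (Fin n)) : GL (Fin n) F) : Matrix (Fin n) (Fin n) F)).BlockTriangular
        (compLabel (a ∘ Fin.rev))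
  have e4 : ∀ i j : Fin n, (((permGL F n (Fin.revPerm : Equiv.Perm (Fin n)) : GL (Fin n) F) :
      Matrix (Fin n) (Fin n) F) * (itr s : Matrix (Fin n) (Fin n) F) *
      ((permGL F n (Fin.revPerm : Equiv.Perm (Fin n)) : GL (Fin n) F) : Matrix (Fin n) (Fin n) F)) i j =
      ((s⁻¹ : SpecialLinearGroup (Fin n) F) : Matrix (Fin n) (Fin n) F) (Fin.rev j) (Fin.rev i) := by
    intro i j
    rw [mul_permGL_apply, permGL_mul_apply, coe_itr, Matrix.transpose_apply]
    rfl
  constructor
  · intro h i j hij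
    rw [e4]
    apply h
    rw [compLabel_rev a ha, compLabel_rev a ha] at hij
    have := compLabel_lt a ha (Fin.rev i)
    have := compLabel_lt a ha (Fin.rev j)
    omega
  · intro h i j hij
    have h1 := e4 (Fin.rev j) (Fin.rev i)
    rw [Fin.rev_rev, Fin.rev_rev] at h1
    rw [← h1]
    apply h
    rw [compLabel_rev a ha, compLabel_rev a ha, Fin.rev_rev, Fin.rev_rev]
    have := compLabel_lt a ha i
    have := compLabel_lt a ha j
    omega

end field

/-! ### the invariance -/

section main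

variable {F : Type u} [Field F] [Fintype F] {n : ℕ}

/-- **The flag characters are invariant under every automorphism.** -/
theorem fz_flg_aut (hn : 2 ≤ n) [Fintype (ProjectiveSpecialLinearGroup (Fin n) F)]
    (α : MulAut (ProjectiveSpecialLinearGroup (Fin n) F)) (a : Fin n → ℕ) (ha : ∑ i, a i = n)
    (x : ProjectiveSpecialLinearGroup (Fin n) F) : fz (flg n F a) (α x) = fz (flg n F a) x := by
  have hP : ∀ (A : GL (Fin n) F) (y : ProjectiveSpecialLinearGroup (Fin n) F),
      fz (flg n F a) (Psi n F A y) = fz (flg n F a) y := by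
    intro A y
    obtain ⟨g, hg⟩ := exists_conj_Psi (F := F) (show 0 < n by omega) a A
    exact fz_of_conj _ _ _ g hg y
  have hφ : ∀ (σ : F ≃+* F) (y : ProjectiveSpecialLinearGroup (Fin n) F),
      fz (flg n F a) (phi n F σ y) = fz (flg n F a) y := by
    intro σ y
    refine fz_of_conj _ _ _ 1 (fun k => ?_) y
    rw [inv_one, one_mul, mul_one]
    exact mem_phi a σ k
  have hι : ∀ y : ProjectiveSpecialLinearGroup (Fin n) F, fz (flg n F a) (iot n F y) = fz (flg n F a) y := by
    intro y
    obtain ⟨g, hg⟩ := exists_conj_iot (F := F) (show 0 < n by omega) a ha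
    rw [← fz_of_conj _ _ _ g hg y]
    exact (fz_rev (youngType_flg (show 0 < n by omega)) a ha Fin.revPerm _).symm
  rcases exists_form hn α with ⟨A, σ, rfl⟩ | ⟨-, A, σ, rfl⟩
  · rw [MulAut.mul_apply, hP, hφ]
  · rw [MulAut.mul_apply, MulAut.mul_apply, hP, hφ, hι]

/-- the integral combinations -/
theorem T_flg_aut (hn : 2 ≤ n) [Fintype (ProjectiveSpecialLinearGroup (Fin n) F)]
    (α : MulAut (ProjectiveSpecialLinearGroup (Fin n) F)) (c : Cmp n →₀ ℤ)
    (x : ProjectiveSpecialLinearGroup (Fin n) F) : T (flg n F) c (α x) = T (flg n F) c x := by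
  induction c using Finsupp.induction_linear with
  | zero => simp
  | add c₁ c₂ h1 h2 => rw [map_add, Pi.add_apply, Pi.add_apply, h1, h2]
  | single a z => rw [T_single, T_single, fz_flg_aut hn α a.1 a.2]

theorem fixedPoint_flg_aut (hn : 2 ≤ n) [Fintype (ProjectiveSpecialLinearGroup (Fin n) F)]
    (α : MulAut (ProjectiveSpecialLinearGroup (Fin n) F)) (a : Fin n → ℕ) (ha : ∑ i, a i = n)
    (x : ProjectiveSpecialLinearGroup (Fin n) F) :
    fixedPointCharacter (flg n F a) (α x) = fixedPointCharacter (flg n F a) x := by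
  rw [← fz_cast, ← fz_cast, fz_flg_aut hn α a ha]

/-- **`θ` is invariant.** -/
theorem theta_aut (hn : 2 ≤ n) [Fintype (ProjectiveSpecialLinearGroup (Fin n) F)] (c : Cmp n →₀ ℤ)
    {θ : ProjectiveSpecialLinearGroup (Fin n) F → ℂ} (hθ : ∀ x, θ x = (T (flg n F) c x : ℂ))
    (α : MulAut (ProjectiveSpecialLinearGroup (Fin n) F)) (x : ProjectiveSpecialLinearGroup (Fin n) F) :
    θ (α x) = θ x := by
  rw [hθ, hθ, T_flg_aut hn α c x]

end main

end Cfsg.Agent.H477.CY
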